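import Cfsg.Agent.Lib.MathieuAut22.Fixed
import Cfsg.Agent.Lib.Golay.Involutions
import Cfsg.Agent.Lib.Steiner.WittAut

/-!
# The automorphism group of `M22`

Every automorphism of `M22` permutes the point stabilisers (the subgroups of order 20160), hence
the 22 points, and preserves the hexads (the fixed point sets of involutions).  So the automorphism
group is the setwise stabiliser of two points in `M24`, of order 887040, and the inner
automorphisms form its only subgroup of index 2.
-/

set_option autoImplicit false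

namespace CfsgLib.MathieuAut22

open Cfsg CfsgLib.Golay CfsgLib.Steiner CfsgLib.Steiner.Witt CfsgLib.Steiner.Rigidity
open scoped Pointwise

/-- The 22 points. -/
abbrev Pts22 : Type := {x : GolayPt // x ∉ twoPts}

theorem sporM22_le_setStab : Spor.M22 ≤ setStab twoPts := sporM22_le

/-- The action on the 22 points. -/
noncomputable def toPts : ↥Spor.M22 →* Equiv.Perm Pts22 :=
  (restrict twoPts).comp (Subgroup.inclusion sporM22_le_setStab)

theorem toPts_apply (g : ↥Spor.M22) (x : Pts22) :
    (toPts g x : GolayPt) = (g : Equiv.Perm GolayPt) x := rfl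

theorem toPts_injective : Function.Injective toPts :=
  (restrict_injective (Or.inr (Or.inr rfl))).comp (Subgroup.inclusion_injective _)

/-- The stabiliser of one of the 22 points. -/
def ptStab (p : Pts22) : Subgroup ↥Spor.M22 :=
  (MulAction.stabilizer (Equiv.Perm GolayPt) (p : GolayPt)).subgroupOf Spor.M22

theorem mem_ptStab {p : Pts22} {g : ↥Spor.M22} :
    g ∈ ptStab p ↔ (g : Equiv.Perm GolayPt) p = p := Iff.rfl

theorem map_ptStab (p : Pts22) :
    (ptStab p).map Spor.M22.subtype = fixPts [none, some 0, (p : GolayPt)] := by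
  rw [ptStab, Subgroup.subgroupOf_map_subtype]
  ext σ
  simp [mem_sporM22, mem_fixPts, twoPts, and_assoc]
  tauto

theorem nodup_three (p : Pts22) : ([none, some 0, (p : GolayPt)] : List GolayPt).Nodup := by
  have h := p.2
  simp only [twoPts, Finset.mem_insert, Finset.mem_singleton, not_or] at h
  simp [Ne.symm h.1, Ne.symm h.2]

theorem card_ptStab (p : Pts22) : Nat.card (ptStab p) = 20160 := by
  rw [← Subgroup.card_map_of_injective Spor.M22.subtype_injective (K := ptStab p), map_ptStab,
    natCard_fixPts (nodup_three p) (by simp)]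
  exact natCard_stdStab 3

/-- A point is determined by its stabiliser. -/
theorem eq_of_ptStab_fix {p q : Pts22}
    (h : ∀ g ∈ ptStab p, (g : Equiv.Perm GolayPt) q = q) : p = q := by
  by_contra hne
  have hle : fixPts [none, some 0, (p : GolayPt)] ≤ fixPts [none, some 0, (p : GolayPt), (q : GolayPt)] := by
    intro σ hσ
    have hmem : σ ∈ (ptStab p).map Spor.M22.subtype := (map_ptStab p).symm ▸ hσ
    obtain ⟨g, hg, rfl⟩ := Subgroup.mem_map.mp hmem
    obtain ⟨h1, h2⟩ := mem_fixPts.mp hσ
    refine mem_fixPts.mpr ⟨h1, fun x hx => ?_⟩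
    simp only [List.mem_cons, List.not_mem_nil, or_false] at hx
    rcases hx with rfl | rfl | rfl | rfl
    · exact h2 _ (by simp)
    · exact h2 _ (by simp)
    · exact h2 _ (by simp)
    · exact h g hg
  have hnd : ([none, some 0, (p : GolayPt), (q : GolayPt)] : List GolayPt).Nodup := by
    have h1 := p.2
    have h2 := q.2
    simp only [twoPts, Finset.mem_insert, Finset.mem_singleton, not_or] at h1 h2
    simp [Ne.symm h1.1, Ne.symm h1.2, Ne.symm h2.1, Ne.symm h2.2, Subtype.coe_injective.ne hne]
  have h := Subgroup.card_le_of_le hle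
  rw [natCard_fixPts (nodup_three p) (by simp), natCard_fixPts hnd (by simp)] at h
  rw [show Nat.card (stdStab [none, some 0, (p : GolayPt)].length) = 20160 from natCard_stdStab 3,
    show Nat.card (stdStab [none, some 0, (p : GolayPt), (q : GolayPt)].length) = 960
      from natCard_stdStab 4] at h
  omega

theorem ptStab_injective : Function.Injective ptStab := fun p q h =>
  eq_of_ptStab_fix fun g hg => mem_ptStab.mp (h ▸ hg)

theorem exists_ptStab_eq {K : Subgroup ↥Spor.M22} (hK : Nat.card K = 20160) : ∃ p, K = ptStab p := by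
  obtain ⟨p, hp, hfix⟩ := exists_fixed_of_card (L := K.map Spor.M22.subtype)
    (Subgroup.map_subtype_le K) (by
      rw [Subgroup.card_map_of_injective Spor.M22.subtype_injective, hK])
  refine ⟨⟨p, hp⟩, Subgroup.eq_of_le_of_card_ge (fun g hg => ?_) ?_⟩
  · exact mem_ptStab.mpr (hfix _ (Subgroup.mem_map_of_mem _ hg))
  · rw [hK, card_ptStab]

theorem exists_map_ptStab (φ : MulAut ↥Spor.M22) (p : Pts22) :
    ∃ q, (ptStab p).map φ.toMonoidHom = ptStab q :=
  exists_ptStab_eq (by rw [Subgroup.card_map_of_injective φ.injective, card_ptStab])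

/-- The point permutation induced by an automorphism. -/
noncomputable def ptMap (φ : MulAut ↥Spor.M22) (p : Pts22) : Pts22 :=
  (exists_map_ptStab φ p).choose

theorem map_ptStab_eq (φ : MulAut ↥Spor.M22) (p : Pts22) :
    (ptStab p).map φ.toMonoidHom = ptStab (ptMap φ p) :=
  (exists_map_ptStab φ p).choose_spec

theorem ptMap_one (p : Pts22) : ptMap 1 p = p := by
  refine ptStab_injective ?_
  rw [← map_ptStab_eq]
  exact Subgroup.map_id _

theorem ptMap_mul (φ ψ : MulAut ↥Spor.M22) (p : Pts22) :
    ptMap (φ * ψ) p = ptMap φ (ptMap ψ p) := by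
  refine ptStab_injective ?_
  rw [← map_ptStab_eq, ← map_ptStab_eq, ← map_ptStab_eq, Subgroup.map_map]
  rfl

/-- Automorphisms act on the 22 points. -/
noncomputable def ptPerm : MulAut ↥Spor.M22 →* Equiv.Perm Pts22 where
  toFun φ :=
    { toFun := ptMap φ
      invFun := ptMap φ⁻¹
      left_inv := fun p => by rw [← ptMap_mul, inv_mul_cancel, ptMap_one]
      right_inv := fun p => by rw [← ptMap_mul, mul_inv_cancel, ptMap_one] }
  map_one' := Equiv.ext ptMap_one
  map_mul' φ ψ := Equiv.ext (ptMap_mul φ ψ)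

theorem ptPerm_equivariant (φ : MulAut ↥Spor.M22) (g : ↥Spor.M22) (p : Pts22) :
    ptPerm φ (toPts g p) = toPts (φ g) (ptPerm φ p) := by
  symm
  refine eq_of_ptStab_fix fun k hk => ?_
  rw [mem_ptStab, toPts_apply] at hk
  have h1 : (φ g)⁻¹ * k * φ g ∈ ptStab (ptMap φ p) := by
    rw [mem_ptStab]
    show ((φ g : Equiv.Perm GolayPt)⁻¹ * k * φ g) (ptMap φ p : GolayPt) = _
    rw [Equiv.Perm.mul_apply, Equiv.Perm.mul_apply]
    exact (congrArg _ hk).trans (Equiv.symm_apply_apply _ _)
  rw [← map_ptStab_eq] at h1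
  obtain ⟨j, hj, hjk⟩ := Subgroup.mem_map.mp h1
  have h2 : g * j * g⁻¹ ∈ ptStab (toPts g p) := by
    rw [mem_ptStab, toPts_apply]
    show ((g : Equiv.Perm GolayPt) * j * (g : Equiv.Perm GolayPt)⁻¹) ((g : Equiv.Perm GolayPt) p) = _
    rw [Equiv.Perm.mul_apply, Equiv.Perm.mul_apply]
    exact congrArg _ ((congrArg _ (Equiv.symm_apply_apply _ _)).trans (mem_ptStab.mp hj))
  have h3 := Subgroup.mem_map_of_mem φ.toMonoidHom h2
  rw [map_ptStab_eq, mem_ptStab] at h3
  have e : φ (g * j * g⁻¹) = k := by
    rw [map_mul, map_mul, map_inv, show φ j = (φ g)⁻¹ * k * φ g from hjk]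
    group
  rw [show φ.toMonoidHom (g * j * g⁻¹) = k from e] at h3
  exact h3

theorem ptPerm_injective : Function.Injective ptPerm := by
  rw [injective_iff_map_eq_one]
  intro φ hφ
  refine MulEquiv.ext fun g => toPts_injective (Equiv.ext fun p => ?_)
  have := ptPerm_equivariant φ g p
  rw [hφ] at this
  exact this.symm

/-- The standard hexads. -/
theorem mem_std_iff {h : Finset Pts22} :
    h ∈ std twoPts ↔ ∃ o ∈ octads, twoPts ⊆ o ∧ (o.subtype fun x => x ∉ twoPts) = h := by
  rw [std, strip, Set.mem_image]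
  exact ⟨fun ⟨o, ⟨h1, h2⟩, h3⟩ => ⟨o, h1, h2, h3⟩, fun ⟨o, h1, h2, h3⟩ => ⟨o, ⟨h1, h2⟩, h3⟩⟩

/-- The points fixed by an element of `M22`. -/
noncomputable def fixSet (g : ↥Spor.M22) : Finset Pts22 :=
  Finset.univ.filter fun p => toPts g p = p

theorem fixSet_eq_subtype (g : ↥Spor.M22) :
    fixSet g = (Finset.univ.filter fun x => (g : Equiv.Perm GolayPt) x = x).subtype
      fun x => x ∉ twoPts := by
  ext p
  simp [fixSet, Subtype.ext_iff, toPts_apply]

theorem image_fixSet (φ : MulAut ↥Spor.M22) (g : ↥Spor.M22) :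
    (fixSet g).image (ptPerm φ) = fixSet (φ g) := by
  ext q
  simp only [fixSet, Finset.mem_image, Finset.mem_filter, Finset.mem_univ, true_and]
  constructor
  · rintro ⟨p, hp, rfl⟩
    rw [← ptPerm_equivariant, hp]
  · intro hq
    refine ⟨(ptPerm φ)⁻¹ q, (ptPerm φ).injective ?_, Equiv.apply_symm_apply _ _⟩
    rw [ptPerm_equivariant, Equiv.Perm.inv_def, Equiv.apply_symm_apply]
    exact hq

theorem fixed_mem_octads {g : ↥Spor.M22} (hg : orderOf g = 2) :
    (Finset.univ.filter fun x => (g : Equiv.Perm GolayPt) x = x) ∈ octads ∧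
      twoPts ⊆ Finset.univ.filter fun x => (g : Equiv.Perm GolayPt) x = x := by
  obtain ⟨hM, hfix⟩ := mem_sporM22.mp g.2
  have h2 : orderOf (g : Equiv.Perm GolayPt) = 2 := by rw [Subgroup.orderOf_coe]; exact hg
  refine ⟨?_, fun x hx => Finset.mem_filter.mpr ⟨Finset.mem_univ x, hfix x hx⟩⟩
  rcases Invol.two_classes hM h2 with ⟨h, -⟩ | ⟨h, -⟩
  · exact h
  · exact absurd (hfix none (by simp [twoPts])) (h none)

/-- `M22` is transitive on the octads through the two points. -/
theorem exists_map_octad {o o' : Finset GolayPt} (ho : o ∈ octads) (ho' : o' ∈ octads)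
    (hW : twoPts ⊆ o) (hW' : twoPts ⊆ o') : ∃ h : ↥Spor.M22, (h : Equiv.Perm GolayPt) • o = o' := by
  have key : ∀ {o : Finset GolayPt}, o ∈ octads → twoPts ⊆ o → ∃ T : Finset GolayPt,
      T ⊆ o \ twoPts ∧ T.card = 3 := fun {o} ho hW => Finset.exists_subset_card_eq (by
        rw [Finset.card_sdiff_of_subset hW, card_of_mem_octads ho, card_twoPts]; norm_num)
  obtain ⟨T, hT, hTc⟩ := key ho hW
  obtain ⟨T', hT', hTc'⟩ := key ho' hW'
  have nd : ∀ {o T : Finset GolayPt}, T ⊆ o \ twoPts →
      ([none, some 0] ++ T.toList : List GolayPt).Nodup := by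
    intro o T hT
    refine List.nodup_append.mpr ⟨by simp, Finset.nodup_toList T, fun x hx y hy e => ?_⟩
    have := (Finset.mem_sdiff.mp (hT (Finset.mem_toList.mp hy))).2
    refine this ?_
    subst e
    simpa [twoPts] using hx
  obtain ⟨g, hg, hgm⟩ := exists_map_eq (L := [none, some 0] ++ T.toList)
    (L' := [none, some 0] ++ T'.toList) (nd hT) (nd hT') (by simp [hTc, hTc']) (by simp [hTc])
  rw [List.map_append] at hgm
  obtain ⟨hgW, hgT⟩ := List.append_inj hgm (by simp)
  simp only [List.map_cons, List.map_nil, List.cons.injEq, and_true] at hgW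
  refine ⟨⟨g, mem_sporM22.mpr ⟨hg, fun x hx => ?_⟩⟩, ?_⟩
  · simp only [twoPts, Finset.mem_insert, Finset.mem_singleton] at hx
    rcases hx with rfl | rfl
    exacts [hgW.1, hgW.2]
  show g • o = o'
  refine octad_eq_of_five_le (smul_mem_octads hg ho) ho' ?_
  have hc : ([none, some 0] ++ T'.toList : List GolayPt).toFinset.card = 5 := by
    rw [List.toFinset_card_of_nodup (nd hT')]; simp [hTc']
  rw [← hc]
  refine Finset.card_le_card fun x hx => Finset.mem_inter.mpr ?_
  rw [List.mem_toFinset] at hx
  have hxo' : x ∈ o' := by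
    rcases List.mem_append.mp hx with h | h
    · exact hW' (by simpa [twoPts] using h)
    · exact (Finset.mem_sdiff.mp (hT' (Finset.mem_toList.mp h))).1
  refine ⟨?_, hxo'⟩
  rw [← hgT] at hx
  rcases List.mem_append.mp hx with h | h
  · have hxW : x ∈ twoPts := by simpa [twoPts] using h
    refine Finset.mem_smul_finset.mpr ⟨x, hW hxW, ?_⟩
    simp only [List.mem_cons, List.not_mem_nil, or_false] at h
    rcases h with rfl | rfl
    exacts [hgW.1, hgW.2]
  · obtain ⟨y, hy, rfl⟩ := List.mem_map.mp h
    exact Finset.smul_mem_smul_finset (Finset.mem_sdiff.mp (hT (Finset.mem_toList.mp hy))).1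

theorem mem_std_iff_exists_involution {h : Finset Pts22} :
    h ∈ std twoPts ↔ ∃ g : ↥Spor.M22, orderOf g = 2 ∧ fixSet g = h := by
  constructor
  · intro hh
    obtain ⟨o', ho', hW', rfl⟩ := mem_std_iff.mp hh
    haveI : Fact (Nat.Prime 2) := ⟨Nat.prime_two⟩
    obtain ⟨g, hg⟩ := exists_prime_orderOf_dvd_card' (G := ↥Spor.M22) 2
      (by rw [natCard_sporM22]; norm_num)
    obtain ⟨ho, hW⟩ := fixed_mem_octads hg
    obtain ⟨k, hk⟩ := exists_map_octad ho ho' hW hW'
    refine ⟨k * g * k⁻¹, ?_, ?_⟩
    · rw [← MulAut.conj_apply, MulEquiv.orderOf_eq, hg]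
    · rw [fixSet_eq_subtype, ← hk]
      congr 1
      ext x
      rw [Finset.mem_filter, ← Finset.inv_smul_mem_iff, Finset.mem_filter, Equiv.Perm.smul_def]
      simp only [Finset.mem_univ, true_and, Subgroup.coe_mul, Subgroup.coe_inv,
        Equiv.Perm.mul_apply]
      exact ⟨fun h => by
        conv_rhs => rw [← h]
        simp, fun h => by rw [h]; simp⟩
  · rintro ⟨g, hg, rfl⟩
    obtain ⟨ho, hW⟩ := fixed_mem_octads hg
    exact mem_std_iff.mpr ⟨_, ho, hW, (fixSet_eq_subtype g).symm⟩

theorem ptPerm_mem (φ : MulAut ↥Spor.M22) : ptPerm φ ∈ setSystemAut (std twoPts) := by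
  rw [mem_setSystemAut_iff]
  refine Set.Subset.antisymm ?_ ?_
  · rintro _ ⟨b, hb, rfl⟩
    obtain ⟨g, hg, rfl⟩ := mem_std_iff_exists_involution.mp hb
    exact mem_std_iff_exists_involution.mpr
      ⟨φ g, by rw [MulEquiv.orderOf_eq, hg], (image_fixSet φ g).symm⟩
  · intro b hb
    obtain ⟨g, hg, rfl⟩ := mem_std_iff_exists_involution.mp hb
    exact ⟨fixSet (φ.symm g), mem_std_iff_exists_involution.mpr
      ⟨φ.symm g, by rw [MulEquiv.orderOf_eq, hg], rfl⟩, by
        show (fixSet (φ.symm g)).image (ptPerm φ) = fixSet g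
        rw [image_fixSet, MulEquiv.apply_symm_apply]⟩

theorem card_mulAut_le : Nat.card (MulAut ↥Spor.M22) ≤ 887040 := by
  have h1 : Nat.card (setSystemAut (std twoPts)) = 887040 := by
    rw [← Nat.card_congr (autEquiv (W := twoPts) (Or.inr (Or.inr rfl))).toEquiv]
    exact natCard_setStab_pair
  rw [← h1]
  exact Nat.card_le_card_of_injective (ptPerm.codRestrict _ ptPerm_mem) fun a b h =>
    ptPerm_injective (congrArg Subtype.val h)

instance : (Spor.M22.subgroupOf (setStab twoPts)).Normal :=
  Subgroup.normal_of_index_eq_two index_sporM22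

/-- Conjugation by the stabiliser of the two points. -/
noncomputable def conjHom : ↥(setStab twoPts) →* MulAut ↥Spor.M22 :=
  (MulAut.congr (Subgroup.subgroupOfEquivOfLe sporM22_le_setStab)).toMonoidHom.comp
    (MulAut.conjNormal (H := Spor.M22.subgroupOf (setStab twoPts)))

theorem conjHom_apply (a : ↥(setStab twoPts)) (g : ↥Spor.M22) :
    (conjHom a g : Equiv.Perm GolayPt) = a * g * (a : Equiv.Perm GolayPt)⁻¹ := rfl

theorem conjHom_injective : Function.Injective conjHom := by
  rw [injective_iff_map_eq_one]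
  intro a ha
  have hc : ∀ g : ↥Spor.M22, (a : Equiv.Perm GolayPt) * g = g * a := fun g => by
    have h : (conjHom a g : Equiv.Perm GolayPt) = g := by rw [ha]; rfl
    rw [conjHom_apply] at h
    conv_rhs => rw [← h]
    group
  apply restrict_injective (W := twoPts) (Or.inr (Or.inr rfl))
  rw [map_one]
  refine Equiv.ext fun p => ?_
  symm
  refine eq_of_ptStab_fix fun g hg => ?_
  show (g : Equiv.Perm GolayPt) ((a : Equiv.Perm GolayPt) p) = (a : Equiv.Perm GolayPt) p
  rw [← Equiv.Perm.mul_apply, ← hc g, Equiv.Perm.mul_apply]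
  exact congrArg _ (mem_ptStab.mp hg)

theorem conjHom_bijective : Function.Bijective conjHom := by
  refine (Nat.bijective_iff_injective_and_card _).mpr ⟨conjHom_injective, ?_⟩
  have h := Nat.card_le_card_of_injective _ conjHom_injective
  rw [show Nat.card ↥(setStab twoPts) = 887040 from natCard_setStab_pair] at h ⊢
  exact le_antisymm h card_mulAut_le

/-- `Aut M22` is the setwise stabiliser of two points in `M24`. -/
noncomputable def autM22Equiv : ↥(setStab twoPts) ≃* MulAut ↥Spor.M22 :=
  MulEquiv.ofBijective conjHom conjHom_bijective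

theorem natCard_mulAut_sporM22 : Nat.card (MulAut ↥Spor.M22) = 887040 := by
  rw [← Nat.card_congr autM22Equiv.toEquiv]
  exact natCard_setStab_pair

theorem conj_injective : Function.Injective (MulAut.conj : ↥Spor.M22 →* MulAut ↥Spor.M22) := by
  intro a b h
  refine Subgroup.inclusion_injective sporM22_le_setStab (conjHom_injective (MulEquiv.ext fun g => ?_))
  exact DFunLike.congr_fun h g

theorem natCard_inn : Nat.card (MulAut.conj : ↥Spor.M22 →* MulAut ↥Spor.M22).range = 443520 := by
  rw [← Nat.card_congr (MonoidHom.ofInjective conj_injective).toEquiv, natCard_sporM22]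

theorem index_inn : (MulAut.conj : ↥Spor.M22 →* MulAut ↥Spor.M22).range.index = 2 := by
  have h := Subgroup.card_mul_index (MulAut.conj : ↥Spor.M22 →* MulAut ↥Spor.M22).range
  rw [natCard_inn, natCard_mulAut_sporM22] at h
  omega

/-- The inner automorphisms form the only subgroup of index 2. -/
theorem eq_inn_of_index_two {K : Subgroup (MulAut ↥Spor.M22)} (hK : K.index = 2) :
    K = (MulAut.conj : ↥Spor.M22 →* MulAut ↥Spor.M22).range := by
  haveI := isSimpleGroup_sporM22
  haveI : K.Normal := Subgroup.normal_of_index_eq_two hK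
  have hle : (MulAut.conj : ↥Spor.M22 →* MulAut ↥Spor.M22).range ≤ K := by
    rintro _ ⟨g, rfl⟩
    rcases (inferInstance : (K.comap (MulAut.conj : ↥Spor.M22 →* MulAut ↥Spor.M22)).Normal).eq_bot_or_eq_top
      with h | h
    · exfalso
      have hd := Subgroup.relIndex_dvd_index_of_normal K
        (MulAut.conj : ↥Spor.M22 →* MulAut ↥Spor.M22).range
      rw [← Subgroup.index_comap, h, Subgroup.index_bot, natCard_sporM22, hK] at hd
      norm_num at hd
    · exact (h.symm ▸ Subgroup.mem_top g : g ∈ K.comap _)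
  symm
  refine Subgroup.eq_of_le_of_card_ge hle ?_
  have h := Subgroup.card_mul_index K
  rw [hK, natCard_mulAut_sporM22] at h
  rw [natCard_inn]
  omega

/-- A subgroup of index 2 of a copy of `Aut M22` is `M22`. -/
theorem equiv_of_index_two {A : Type*} [Group A] (e : A ≃* MulAut ↥Spor.M22) {K : Subgroup A}
    (hK : K.index = 2) : Nonempty (↥K ≃* ↥Spor.M22) := by
  have h : (K.map e.toMonoidHom).index = 2 := by
    rw [Subgroup.index_map_of_bijective e.bijective, hK]
  exact ⟨((K.equivMapOfInjective e.toMonoidHom e.injective).trans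
    (MulEquiv.subgroupCongr (eq_inn_of_index_two h))).trans
    (MonoidHom.ofInjective conj_injective).symm⟩

end CfsgLib.MathieuAut22
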