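import Cfsg.Agent.Lib.Golay.Classes
import Cfsg.Agent.Lib.Golay.Mathieu

/-!
# Fixed points in `M24` and subgroups of index 22 of `M22`

A non-identity element of `M24` fixes at most eight of the 24 points; consequently a subgroup of
`M22` of order 20160 fixes one of the 22 points.
-/

set_option autoImplicit false

namespace CfsgLib.MathieuAut22

open Cfsg CfsgLib.Golay
open scoped Pointwise

/-- A non-identity element of `M24` fixes at most eight points. -/
theorem card_fixed_le_eight {σ : Equiv.Perm GolayPt} (hσ : σ ∈ M24) (h1 : σ ≠ 1) :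
    (Finset.univ.filter fun p => σ p = p).card ≤ 8 := by
  by_contra hlt
  push Not at hlt
  set F := Finset.univ.filter fun p => σ p = p with hF
  obtain ⟨T, hTF, hT⟩ := Finset.exists_subset_card_eq (s := F) (n := 5) (by omega)
  have hlen : T.toList.length = 5 := by rw [Finset.length_toList, hT]
  obtain ⟨g, hg, hgm⟩ := exists_map_eq (L := basePts.take 5) (L' := T.toList) (by decide +kernel)
    (Finset.nodup_toList _) (by rw [hlen]; rfl) (le_refl 5)
  have ho : g • baseOctad ∈ octads := smul_mem_octads hg baseOctad_mem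
  have hTo : T ⊆ g • baseOctad := by
    intro p hp
    rw [← Finset.mem_toList, ← hgm, List.mem_map] at hp
    obtain ⟨q, hq, rfl⟩ := hp
    exact Finset.mem_smul_finset.mpr
      ⟨q, basePts_subset_baseOctad q (List.take_subset_take_left _ (by norm_num : 5 ≤ 6) hq), rfl⟩
  obtain ⟨a, haF, hao⟩ := Classes.exists_mem_notMem (s := F) (t := g • baseOctad)
    (by rw [card_of_mem_octads ho]; omega)
  set L := T.toList ++ [a] with hL
  have hnd : L.Nodup := List.nodup_append.mpr ⟨Finset.nodup_toList T, List.nodup_singleton a,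
    fun x hx y hy => by
      rw [List.mem_singleton] at hy
      rintro rfl
      exact hao (hy ▸ hTo (Finset.mem_toList.mp hx))⟩
  have hgen : ¬ InOctad L := by
    rintro ⟨o, ho', h⟩
    refine hao ?_
    rw [← octad_eq_of_five_le ho' ho (le_of_eq hT.symm |>.trans (Finset.card_le_card fun p hp =>
      Finset.mem_inter.mpr ⟨h p (List.mem_append_left _ (Finset.mem_toList.mpr hp)), hTo hp⟩))]
    exact h a (List.mem_append_right _ (List.mem_singleton_self a))
  have hmem : σ ∈ fixPts L := by
    refine mem_fixPts.mpr ⟨hσ, fun p hp => ?_⟩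
    rcases List.mem_append.mp hp with hp | hp
    · exact (Finset.mem_filter.mp (hTF (Finset.mem_toList.mp hp))).2
    · rw [List.mem_singleton.mp hp]; exact (Finset.mem_filter.mp haF).2
  have hc3 : Nat.card (fixPts L) = 3 :=
    (natCard_fixPts_six hnd (by rw [hL, List.length_append, hlen]; rfl)).2 hgen
  have hord : orderOf σ = 3 := by
    have hdvd : orderOf σ ∣ 3 := hc3 ▸ Subgroup.orderOf_dvd_natCard _ hmem
    exact ((Nat.dvd_prime Nat.prime_three).mp hdvd).resolve_left fun h => h1 (orderOf_eq_one_iff.mp h)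
  rcases Classes.three_cases hσ hord with ⟨h, -⟩ | ⟨h, -⟩ <;> rw [← hF] at h <;> omega

/-- A permutation of prime order moves the points of an invariant set in cycles of that length. -/
theorem card_filter_fixed_modEq {α : Type*} [DecidableEq α] {p : ℕ} [Fact p.Prime]
    {g : Equiv.Perm α} (hg : g ^ p = 1) {O : Finset α} (hO : ∀ x, g x ∈ O ↔ x ∈ O) :
    (O.filter fun x => g x = x).card ≡ O.card [MOD p] := by
  classical
  set π : Equiv.Perm {x // x ∈ O} := g.subtypePerm hO with hπ
  have hπp : π ^ p ^ 1 = 1 := by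
    rw [pow_one]
    refine Equiv.ext fun x => Subtype.ext ?_
    rw [hπ, Equiv.Perm.subtypePerm_pow]
    simp [hg]
  have hc : π.supportᶜ.card = (O.filter fun x => g x = x).card := by
    refine Finset.card_bij (fun x _ => (x : α)) (fun x hx => ?_) (fun x _ y _ h => Subtype.ext h)
      (fun y hy => ⟨⟨y, (Finset.mem_filter.mp hy).1⟩, ?_, rfl⟩)
    · rw [Finset.mem_compl, Equiv.Perm.mem_support, not_not] at hx
      exact Finset.mem_filter.mpr ⟨x.2, congrArg Subtype.val hx⟩
    · rw [Finset.mem_compl, Equiv.Perm.mem_support, not_not]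
      exact Subtype.ext (Finset.mem_filter.mp hy).2
  have h := Equiv.Perm.card_compl_support_modEq hπp
  rwa [hc, Fintype.card_coe] at h

/-- The two points fixed by `M22`. -/
def twoPts : Finset GolayPt := {none, some 0}

theorem mem_sporM22 {σ : Equiv.Perm GolayPt} :
    σ ∈ Spor.M22 ↔ σ ∈ M24 ∧ ∀ x ∈ twoPts, σ x = x := by
  rw [sporM22_eq, mem_fixPts]
  simp [twoPts]

theorem card_twoPts : twoPts.card = 2 := by decide

/-- A subgroup of `M22` of order 20160 fixes a point outside `twoPts`. -/
theorem exists_fixed_of_card {L : Subgroup (Equiv.Perm GolayPt)} (hL : L ≤ Spor.M22)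
    (hcard : Nat.card L = 20160) : ∃ p ∉ twoPts, ∀ g ∈ L, g p = p := by
  classical
  have hM : ∀ g ∈ L, g ∈ M24 := fun g hg => (mem_sporM22.mp (hL hg)).1
  have hfix : ∀ g ∈ L, ∀ x ∈ twoPts, g x = x := fun g hg => (mem_sporM22.mp (hL hg)).2
  have count : ∀ {p : ℕ}, p.Prime → p ∣ Nat.card L → ∃ g ∈ L, g ≠ 1 ∧ g ^ p = 1 := by
    intro p hp hd
    haveI : Fact p.Prime := ⟨hp⟩
    obtain ⟨g, hg⟩ := exists_prime_orderOf_dvd_card' p hd
    refine ⟨g, g.2, fun h => ?_, ?_⟩
    · rw [show g = 1 from Subtype.ext h, orderOf_one] at hg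
      exact hp.one_lt.ne hg
    · have := congrArg Subtype.val (hg ▸ pow_orderOf_eq_one g)
      simpa using this
  obtain ⟨a, ha, ha1, ha7⟩ := count (p := 7) (by norm_num) (by rw [hcard]; norm_num)
  obtain ⟨b, hb, hb1, hb5⟩ := count (p := 5) (by norm_num) (by rw [hcard]; norm_num)
  haveI : Fact (Nat.Prime 7) := ⟨by norm_num⟩
  haveI : Fact (Nat.Prime 5) := ⟨by norm_num⟩
  set Fa := Finset.univ.filter fun x => a x = x with hFa
  set Fb := Finset.univ.filter fun x => b x = x with hFb
  have hFa8 : Fa.card ≤ 8 := card_fixed_le_eight (hM a ha) ha1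
  have hFb8 : Fb.card ≤ 8 := card_fixed_le_eight (hM b hb) hb1
  have hFam : Fa.card ≡ 24 [MOD 7] := by
    have := card_filter_fixed_modEq ha7 (O := Finset.univ) (fun x => by simp)
    rwa [Finset.card_univ, card_golayPt] at this
  have hFbm : Fb.card ≡ 24 [MOD 5] := by
    have := card_filter_fixed_modEq hb5 (O := Finset.univ) (fun x => by simp)
    rwa [Finset.card_univ, card_golayPt] at this
  have hWa : twoPts ⊆ Fa := fun x hx => Finset.mem_filter.mpr ⟨Finset.mem_univ x, hfix a ha x hx⟩
  have hWb : twoPts ⊆ Fb := fun x hx => Finset.mem_filter.mpr ⟨Finset.mem_univ x, hfix b hb x hx⟩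
  have hFa3 : Fa.card = 3 := by
    have := Finset.card_le_card hWa
    rw [card_twoPts] at this
    unfold Nat.ModEq at hFam
    omega
  have hFb4 : Fb.card = 4 := by
    have := Finset.card_le_card hWb
    rw [card_twoPts] at this
    unfold Nat.ModEq at hFbm
    omega
  obtain ⟨p, hpF, hpW⟩ := Classes.exists_mem_notMem (s := Fa) (t := twoPts)
    (by rw [hFa3, card_twoPts]; norm_num)
  refine ⟨p, hpW, ?_⟩
  -- the orbit of `p`
  set O := Finset.univ.filter fun x => ∃ g ∈ L, g p = x with hO
  have hOinv : ∀ g ∈ L, ∀ x, g x ∈ O ↔ x ∈ O := by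
    intro g hg x
    simp only [hO, Finset.mem_filter, Finset.mem_univ, true_and]
    constructor
    · rintro ⟨h, hh, e⟩
      exact ⟨g⁻¹ * h, mul_mem (inv_mem hg) hh, by simp [e]⟩
    · rintro ⟨h, hh, e⟩
      exact ⟨g * h, mul_mem hg hh, by simp [e]⟩
  have hpO : p ∈ O := by
    simp only [hO, Finset.mem_filter, Finset.mem_univ, true_and]
    exact ⟨1, one_mem _, rfl⟩
  have hOW : ∀ x ∈ O, x ∉ twoPts := by
    intro x hx hxW
    simp only [hO, Finset.mem_filter, Finset.mem_univ, true_and] at hx
    obtain ⟨g, hg, e⟩ := hx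
    have h := hfix g⁻¹ (inv_mem hg) x hxW
    rw [Equiv.Perm.inv_def, Equiv.symm_apply_eq] at h
    have : p = x := g.injective (e.trans h)
    exact hpW (this ▸ hxW)
  have hdisj : Disjoint O twoPts := Finset.disjoint_left.mpr hOW
  have hOle : O.card ≤ 22 := by
    have := Finset.card_le_univ (O ∪ twoPts)
    rw [Finset.card_union_of_disjoint hdisj, card_twoPts, card_golayPt] at this
    omega
  have hOdvd : O.card ∣ 20160 := by
    rw [← hcard]
    have horb : (MulAction.orbit L p : Set GolayPt) = ↑O := by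
      ext x
      simp only [hO, Finset.coe_filter, Finset.mem_univ, true_and, Set.mem_setOf_eq,
        MulAction.mem_orbit_iff]
      exact ⟨fun ⟨g, hg⟩ => ⟨g, g.2, hg⟩, fun ⟨g, hg, e⟩ => ⟨⟨g, hg⟩, e⟩⟩
    have h := MulAction.index_stabilizer L p
    rw [horb, Set.ncard_coe_finset] at h
    exact h ▸ Subgroup.index_dvd_card _
  have hOm : O.card ≡ 1 [MOD 7] := by
    have h := card_filter_fixed_modEq ha7 (hOinv a ha)
    have h1 : (O.filter fun x => a x = x).card = 1 := by
      refine le_antisymm ?_ (Finset.card_pos.mpr ⟨p, Finset.mem_filter.mpr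
        ⟨hpO, (Finset.mem_filter.mp hpF).2⟩⟩)
      have hsub : (O.filter fun x => a x = x) ⊆ Fa \ twoPts := fun x hx => by
        rw [Finset.mem_filter] at hx
        exact Finset.mem_sdiff.mpr ⟨Finset.mem_filter.mpr ⟨Finset.mem_univ x, hx.2⟩, hOW x hx.1⟩
      have := Finset.card_le_card hsub
      rw [Finset.card_sdiff_of_subset hWa, hFa3, card_twoPts] at this
      exact this
    rw [h1] at h
    exact h.symm
  have hcases : O.card = 1 ∨ O.card = 8 ∨ O.card = 15 := by
    unfold Nat.ModEq at hOm
    have h4 : O.card = 1 ∨ O.card = 8 ∨ O.card = 15 ∨ O.card = 22 := by omega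
    rcases h4 with h | h | h | h
    · exact Or.inl h
    · exact Or.inr (Or.inl h)
    · exact Or.inr (Or.inr h)
    · rw [h] at hOdvd; norm_num at hOdvd
  rcases hcases with h1 | h8 | h15
  · intro g hg
    exact Finset.card_le_one.mp h1.le _ ((hOinv g hg p).mpr hpO) _ hpO
  · exfalso
    have h := card_filter_fixed_modEq hb5 (hOinv b hb)
    rw [h8] at h
    have hsub : (O.filter fun x => b x = x) ⊆ Fb \ twoPts := fun x hx => by
      rw [Finset.mem_filter] at hx
      exact Finset.mem_sdiff.mpr ⟨Finset.mem_filter.mpr ⟨Finset.mem_univ x, hx.2⟩, hOW x hx.1⟩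
    have := Finset.card_le_card hsub
    rw [Finset.card_sdiff_of_subset hWb, hFb4, card_twoPts] at this
    unfold Nat.ModEq at h
    omega
  · exfalso
    set C := (O ∪ twoPts)ᶜ with hC
    have hC7 : C.card = 7 := by
      rw [hC, Finset.card_compl, Finset.card_union_of_disjoint hdisj, card_twoPts, card_golayPt, h15]
    have hCinv : ∀ g ∈ L, ∀ x, g x ∈ C ↔ x ∈ C := by
      intro g hg x
      simp only [hC, Finset.mem_compl, Finset.mem_union, hOinv g hg x]
      refine not_congr (or_congr Iff.rfl ⟨fun h => ?_, fun h => by rw [hfix g hg x h]; exact h⟩)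
      have := g.injective (hfix g hg _ h)
      rwa [this] at h
    let f : L →* Equiv.Perm {x // x ∈ C} :=
      { toFun := fun g => (g : Equiv.Perm GolayPt).subtypePerm (hCinv g g.2)
        map_one' := by ext x; rfl
        map_mul' := fun g h => by ext x; rfl }
    have hf : Function.Injective f := by
      rw [injective_iff_map_eq_one]
      intro g hg
      by_contra hne
      have hne' : (g : Equiv.Perm GolayPt) ≠ 1 := fun h => hne (Subtype.ext h)
      have hsub : C ∪ twoPts ⊆ Finset.univ.filter fun x => (g : Equiv.Perm GolayPt) x = x := by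
        intro x hx
        refine Finset.mem_filter.mpr ⟨Finset.mem_univ x, ?_⟩
        rcases Finset.mem_union.mp hx with hx | hx
        · exact congrArg Subtype.val (DFunLike.congr_fun hg ⟨x, hx⟩)
        · exact hfix g g.2 x hx
      have h9 : (C ∪ twoPts).card = 9 := by
        rw [Finset.card_union_of_disjoint, hC7, card_twoPts]
        rw [hC, Finset.disjoint_left]
        intro x hx hxW
        exact Finset.mem_compl.mp hx (Finset.mem_union_right _ hxW)
      have := (Finset.card_le_card hsub).trans (card_fixed_le_eight (hM g g.2) hne')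
      omega
    have hle := Nat.card_le_card_of_injective f hf
    rw [hcard, Nat.card_eq_fintype_card, Fintype.card_perm, Fintype.card_coe, hC7] at hle
    norm_num [Nat.factorial] at hle

end CfsgLib.MathieuAut22
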