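import Cfsg.Agent.Lib.MathieuAut22.Main

/-!
# Elements of order 3 and involutions of `M22`

A four-element frame of a Sylow 3-subgroup (an element of order 4 permuting two commuting elements
of order 3) and the single class of involutions.
-/

set_option autoImplicit false
set_option maxRecDepth 20000

namespace CfsgLib.MathieuAut22

open Cfsg CfsgLib.Golay CfsgLib.Steiner.Witt
open scoped Pointwise

/-- Test for `M22` on image lists. -/
def ok22 (l : List ℕ) : Bool :=
  genOK l && Nat.beq (l.getD 23 0) 23 && Nat.beq (l.getD 0 0) 0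

/-- An element of order 3. -/
def frameX : List ℕ :=
  [0,1,2,3,4,14,15,10,21,8,12,19,7,22,17,18,13,5,6,20,11,9,16,23]

/-- A commuting element of order 3. -/
def frameY : List ℕ :=
  [0,1,4,2,3,22,6,12,21,8,7,14,10,19,16,15,11,13,18,17,5,9,20,23]

/-- An element of order 4 acting as a quarter turn. -/
def frameI : List ℕ :=
  [0,1,6,15,18,11,3,8,12,7,21,17,9,22,14,2,5,16,4,13,19,10,20,23]

/-- The representative involution. -/
def invRep : List ℕ := Classes.fixOctList.getD 1 []

/-- Conjugators inside `M22`. -/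
def invConj : List (List ℕ) := [
    [0,1,2,3,4,5,6,7,8,9,10,11,12,13,14,15,16,17,18,19,20,21,22,23],
    [0,1,2,3,4,14,15,10,21,8,12,19,7,22,17,18,13,5,6,20,11,9,16,23],
    [0,1,2,3,4,17,18,12,9,21,7,20,10,16,5,6,22,14,15,11,19,8,13,23],
    [0,1,2,5,4,3,21,19,11,10,9,8,18,13,17,20,16,14,12,7,15,6,22,23],
    [0,1,2,5,4,14,12,18,10,6,19,15,9,16,3,21,22,17,20,8,7,11,13,23],
    [0,1,2,5,4,17,20,9,6,11,18,7,19,22,14,12,13,3,21,15,8,10,16,23],
    [0,1,2,14,4,3,9,20,19,12,8,21,6,22,5,11,13,17,7,10,18,15,16,23],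
    [0,1,2,14,4,5,11,8,15,19,6,10,20,16,17,7,22,3,9,18,21,12,13,23],
    [0,1,2,14,4,17,7,6,12,15,20,18,8,13,3,9,16,5,11,21,10,19,22,23],
    [0,1,2,17,4,3,8,11,20,7,21,9,15,16,14,19,22,5,10,12,6,18,13,23],
    [0,1,2,17,4,5,10,15,7,18,11,6,21,22,3,8,13,14,19,9,12,20,16,23],
    [0,1,2,17,4,14,19,21,18,20,15,12,11,13,5,10,16,3,8,6,9,7,22,23],
    [0,1,17,2,4,3,10,11,20,18,15,16,21,9,5,19,12,14,8,22,13,7,6,23],
    [0,1,17,2,4,5,19,15,7,20,21,22,11,6,14,8,9,3,10,13,16,18,12,23],
    [0,1,17,2,4,14,8,21,18,7,11,13,15,12,3,10,6,5,19,16,22,20,9,23]]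

theorem idx_none_some : (idx none).val = 23 ∧ (idx (some 0 : GolayPt)).val = 0 := by decide +kernel

theorem exists_elt {l : List ℕ} (h : ok22 l = true) : ∃ g : ↥Spor.M22, toList g = l := by
  simp only [ok22, Bool.and_eq_true] at h
  obtain ⟨σ, hσ, rfl⟩ := exists_perm h.1.1
  refine ⟨⟨σ, mem_sporM22.mpr ⟨hσ, fun x hx => ?_⟩⟩, rfl⟩
  simp only [twoPts, Finset.mem_insert, Finset.mem_singleton] at hx
  have key : ∀ p : GolayPt, (toList σ).getD (idx p).val 0 = (idx p).val → σ p = p := fun p hp => by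
    rw [toList_getD] at hp
    exact idx_injective (Fin.ext hp)
  rcases hx with rfl | rfl
  · exact key _ (by rw [idx_none_some.1]; exact Nat.eq_of_beq_eq_true h.1.2)
  · exact key _ (by rw [idx_none_some.2]; exact Nat.eq_of_beq_eq_true h.2)

theorem frame_check : (ok22 frameX && ok22 frameY && ok22 frameI &&
    (comp frameX (comp frameX frameX) == List.range 24) &&
    !(frameX == List.range 24) &&
    (comp frameX frameY == comp frameY frameX) &&
    (comp frameI frameX == comp frameY frameI) &&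
    (comp frameX (comp frameI frameY) == frameI) &&
    (comp (comp frameI frameI) (comp frameI frameI) == List.range 24) &&
    !(comp frameI frameI == List.range 24)) = true := by decide +kernel

/-- Two commuting elements of order 3 permuted by an element of order 4. -/
theorem exists_frame : ∃ x y i : ↥Spor.M22, x ^ 3 = 1 ∧ x ≠ 1 ∧ x * y = y * x ∧
    i * x * i⁻¹ = y ∧ i * y * i⁻¹ = x⁻¹ ∧ i ^ 4 = 1 ∧ i ^ 2 ≠ 1 := by
  have h := frame_check
  simp only [Bool.and_eq_true, beq_iff_eq, Bool.not_eq_true', beq_eq_false_iff_ne] at h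
  obtain ⟨⟨⟨⟨⟨⟨⟨⟨⟨hx, hy⟩, hi⟩, hx3⟩, hx1⟩, hxy⟩, hix⟩, hiy⟩, hi4⟩, hi2⟩ := h
  obtain ⟨x, hxl⟩ := exists_elt hx
  obtain ⟨y, hyl⟩ := exists_elt hy
  obtain ⟨i, hil⟩ := exists_elt hi
  have inj : ∀ a b : ↥Spor.M22, toList a = toList b → a = b := fun a b e =>
    Subtype.ext (toList_injective e)
  have hm : ∀ a b : ↥Spor.M22, toList (a * b : ↥Spor.M22) = comp (toList a) (toList b) :=
    fun a b => toList_mul _ _
  have h1 : toList ((1 : ↥Spor.M22) : Equiv.Perm GolayPt) = List.range 24 := toList_one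
  refine ⟨x, y, i, inj _ _ ?_, fun e => hx1 ?_, inj _ _ ?_, ?_, ?_, inj _ _ ?_, fun e => hi2 ?_⟩
  · rw [pow_three, hm, hm, h1, hxl]; exact hx3
  · rw [← hxl, e]; exact h1
  · rw [hm, hm, hxl, hyl]; exact hxy
  · rw [mul_inv_eq_iff_eq_mul]; refine inj _ _ ?_
    rw [hm, hm, hil, hxl, hyl]; exact hix
  · rw [mul_inv_eq_iff_eq_mul, eq_inv_mul_iff_mul_eq]; refine inj _ _ ?_
    rw [hm, hm, hxl, hil, hyl]; exact hiy
  · rw [pow_succ, pow_succ, pow_two, mul_assoc, hm, hm, hil]; exact hi4.trans h1.symm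
  · rw [← hil, ← hm, ← pow_two, e]; exact h1

theorem invRep_check : (ok22 invRep &&
    Classes.fixOctList.all fun l => (l == List.range 24) ||
      (([List.range 24] ++ invConj).any fun c => ok22 c && (comp c l == comp invRep c))) = true := by
  decide +kernel

theorem twoPts_subset_baseOctad : twoPts ⊆ baseOctad := by unfold baseOctad twoPts; decide +kernel

/-- The involutions of `M22` form one class. -/
theorem isConj_of_orderOf_two {a b : ↥Spor.M22} (ha : orderOf a = 2) (hb : orderOf b = 2) :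
    IsConj a b := by
  obtain ⟨t, ht⟩ := exists_elt (Bool.and_eq_true_iff.mp invRep_check).1
  suffices key : ∀ g : ↥Spor.M22, orderOf g = 2 → IsConj g t from (key a ha).trans (key b hb).symm
  intro g hg
  obtain ⟨ho, hW⟩ := fixed_mem_octads hg
  obtain ⟨k, hk⟩ := exists_map_octad ho baseOctad_mem hW twoPts_subset_baseOctad
  set g' := k * g * k⁻¹ with hg'
  have hne : g' ≠ 1 := fun e => by
    rw [hg', mul_inv_eq_one, mul_eq_left] at e
    rw [e, orderOf_one] at hg; omega
  have hmem : (g' : Equiv.Perm GolayPt) ∈ fixPts octadSix := by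
    refine mem_fixPts.mpr ⟨(mem_sporM22.mp g'.2).1, fun p hp => ?_⟩
    have hp' : p ∈ baseOctad := basePts_subset_baseOctad p hp
    rw [← hk, Finset.mem_smul_finset] at hp'
    obtain ⟨q, hq, rfl⟩ := hp'
    rw [Finset.mem_filter] at hq
    rw [hg', Subgroup.coe_mul, Subgroup.coe_mul, Subgroup.coe_inv, Equiv.Perm.smul_def,
      Equiv.Perm.mul_apply, Equiv.Perm.mul_apply, Equiv.Perm.inv_def, Equiv.symm_apply_apply, hq.2]
  have hl := List.all_eq_true.mp (Bool.and_eq_true_iff.mp invRep_check).2 _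
    (Classes.toList_mem_fixOct hmem)
  simp only [Bool.or_eq_true, beq_iff_eq, List.any_eq_true, Bool.and_eq_true] at hl
  rcases hl with h1 | ⟨c, -, hc, hce⟩
  · exact absurd (Subtype.ext (toList_injective (h1.trans toList_one.symm))) hne
  · obtain ⟨d, rfl⟩ := exists_elt hc
    have e : d * g' = t * d := Subtype.ext (toList_injective (by
      show toList ((d : Equiv.Perm GolayPt) * (g' : Equiv.Perm GolayPt)) =
        toList ((t : Equiv.Perm GolayPt) * (d : Equiv.Perm GolayPt))
      rw [toList_mul, toList_mul, ht]; exact hce))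
    refine isConj_iff.mpr ⟨d * k, ?_⟩
    rw [show d * k * g * (d * k)⁻¹ = d * g' * d⁻¹ by rw [hg']; group, e, mul_inv_cancel_right]

end CfsgLib.MathieuAut22
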